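import Cfsg.Agent.Lib.Helper67.LSF.Defs

/-!
# LSF (S5286), package [MEM]

Paths give elements of the group.
-/

set_option autoImplicit false

namespace Cfsg.Agent.Lib.Helper49.LSF

open Cfsg Cfsg.Agent.Lib.Helper67.LSF

universe u

variable {Ω : Type u} [Group Ω] {S : Subgroup Ω}

/-- Left multiplication by the stable letter. -/
theorem tGen_mul49 {F : FusionSystem S} (i : Idx F) (Q : Equiv.Perm S) (M : FreeGroup (X F)) :
    tGen i * (SemidirectProduct.inr Q * SemidirectProduct.inl M : Ghat F) =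
      SemidirectProduct.inr (i.σ * Q) * SemidirectProduct.inl
        (FreeGroup.of (⟨i, ((Q⁻¹ : Equiv.Perm S) : Equiv.Perm S ⧸ Lam i)⟩ : X F) * M) := by
  have hx : autF F Q (FreeGroup.of (⟨i, ((Q⁻¹ : Equiv.Perm S) : Equiv.Perm S ⧸ Lam i)⟩ : X F)) =
      FreeGroup.of (x0 i) := by
    unfold autF
    rw [autX_of, xperm_mk, mul_inv_cancel]
    rfl
  refine SemidirectProduct.ext ?_ ?_
  · simp only [tGen, SemidirectProduct.mul_left, SemidirectProduct.left_inr,
      SemidirectProduct.right_inr, SemidirectProduct.left_inl, SemidirectProduct.right_inl,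
      SemidirectProduct.mul_right, one_mul, mul_one, map_mul, MulAut.mul_apply, hx, map_one,
      MulAut.one_apply]
  · simp [tGen, SemidirectProduct.mul_right]

theorem pkgMem : PkgMem.{u} := by
  intro Ω _ S F L q h
  induction h with
  | nil s =>
    have h1 : (SemidirectProduct.inr (lam S s) * SemidirectProduct.inl (FreeGroup.mk []) : Ghat F) =
        aGen F s := by
      rw [← FreeGroup.one_eq_mk]; simp [aGen]
    rw [h1]; exact Subgroup.subset_closure (Or.inl ⟨s, rfl⟩)
  | @a s L q hp ih =>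
    have h1 : (SemidirectProduct.inr (lam S s * q) * SemidirectProduct.inl (FreeGroup.mk L) : Ghat F) =
        aGen F s * (SemidirectProduct.inr q * SemidirectProduct.inl (FreeGroup.mk L)) := by
      simp [aGen, mul_assoc]
    rw [h1]; exact mul_mem (Subgroup.subset_closure (Or.inl ⟨s, rfl⟩)) ih
  | @t i L q hp ih =>
    have h1 : (SemidirectProduct.inr (i.σ * q) * SemidirectProduct.inl
        (FreeGroup.mk ((⟨i, ((q⁻¹ : Equiv.Perm S) : Equiv.Perm S ⧸ Lam i)⟩, true) :: L)) : Ghat F) =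
        tGen i * (SemidirectProduct.inr q * SemidirectProduct.inl (FreeGroup.mk L)) := by
      rw [tGen_mul49]; rfl
    rw [h1]; exact mul_mem (Subgroup.subset_closure (Or.inr ⟨i, rfl⟩)) ih
  | @t' i L q hp ih =>
    have h1 : (SemidirectProduct.inr (i.σ⁻¹ * q) * SemidirectProduct.inl
        (FreeGroup.mk ((⟨i, ((q⁻¹ * i.σ : Equiv.Perm S) : Equiv.Perm S ⧸ Lam i)⟩, false) :: L)) :
          Ghat F) =
        (tGen i)⁻¹ * (SemidirectProduct.inr q * SemidirectProduct.inl (FreeGroup.mk L)) := by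
      rw [eq_inv_mul_iff_mul_eq, tGen_mul49, mul_inv_rev, inv_inv, mul_inv_cancel_left]
      have h2 : (FreeGroup.mk ((⟨i, ((q⁻¹ * i.σ : Equiv.Perm S) : Equiv.Perm S ⧸ Lam i)⟩, false) :: L) :
          FreeGroup (X F)) =
          (FreeGroup.of (⟨i, ((q⁻¹ * i.σ : Equiv.Perm S) : Equiv.Perm S ⧸ Lam i)⟩ : X F))⁻¹ *
            FreeGroup.mk L := rfl
      rw [h2, mul_inv_cancel_left]
    rw [h1]
    exact mul_mem (inv_mem (Subgroup.subset_closure (Or.inr ⟨i, rfl⟩))) ih

end Cfsg.Agent.Lib.Helper49.LSF
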