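import Cfsg.Agent.Lib.Helper67.LSF.Defs

/-!
# LSF (S5286), package [STAB]

The elements of the group with trivial free part are those of `lam S`.
-/

set_option autoImplicit false

namespace Cfsg.Agent.Lib.Helper49.LSF

open Cfsg Cfsg.Agent.Lib.Helper67.LSF

universe u

theorem pkgStab : PkgPath.{u} → PkgRed.{u} → PkgInv.{u} → PkgStab.{u} := by
  intro hPath hRed hInv Ω _ S F g hg hleft
  classical
  obtain ⟨L, q, hp, rfl⟩ := hPath S F g hg
  obtain ⟨L', hp', hred, hmk⟩ := hRed S F L q hp
  rw [SemidirectProduct.mul_left, SemidirectProduct.left_inr, SemidirectProduct.right_inr,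
    SemidirectProduct.left_inl, one_mul] at hleft
  have h1 : FreeGroup.mk L = (1 : FreeGroup (X F)) := by
    have := congrArg (fun w => (autF F q)⁻¹ w) hleft
    simpa using this
  have h2 : L' = [] := by
    have h3 : (FreeGroup.mk L' : FreeGroup (X F)).toWord = [] := by
      rw [hmk, h1]; exact FreeGroup.toWord_one
    rw [FreeGroup.toWord_mk, hred.reduce_eq] at h3
    exact h3
  subst h2
  obtain ⟨s, hs⟩ := (hInv S F).1 q hp'
  refine ⟨s, ?_⟩
  rw [h1, hs]
  simp [aGen]

end Cfsg.Agent.Lib.Helper49.LSF
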